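import Cfsg.Agent.H15.BaseRed.Coprime
import Mathlib.GroupTheory.SemidirectProduct

/-!
Bases of size two (helper15): coprime solvable groups of automorphisms, in external form.
-/

set_option autoImplicit false
set_option linter.style.haveILetI false

namespace H15.BaseRed

/-- A faithful coprime action of a solvable group has a base of two elements. -/
theorem exists_base (hB : CoprimeBase2) {A K : Type*} [Group A] [Finite A] [Group K] [Finite K]
    [MulDistribMulAction A K] [FaithfulSMul A K] (hA : Group.IsSolvable A)
    (hcop : (Nat.card A).Coprime (Nat.card K)) :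
    ∃ x y : K, ∀ a : A, a • x = x → a • y = y → a = 1 := by
  set φ := MulDistribMulAction.toMulAut A K with hφ
  haveI : Finite (K ⋊[φ] A) := Finite.of_equiv (K × A) SemidirectProduct.equivProd.symm
  let A' : Subgroup (K ⋊[φ] A) := (SemidirectProduct.inr (φ := φ)).range
  let K' : Subgroup (K ⋊[φ] A) := (SemidirectProduct.inl (φ := φ)).range
  haveI : Group.IsSolvable A' :=
    Group.isSolvable_of_surjective (f := (SemidirectProduct.inr (φ := φ)).rangeRestrict)
      (SemidirectProduct.inr (φ := φ)).rangeRestrict_surjective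
  haveI : K'.Normal := by
    show (SemidirectProduct.inl (φ := φ)).range.Normal
    rw [SemidirectProduct.range_inl_eq_ker_rightHom]
    infer_instance
  have hAK : A' ≤ Subgroup.normalizer (K' : Set (K ⋊[φ] A)) := by
    rw [Subgroup.normalizer_eq_top]; exact le_top
  have hc : (Nat.card A').Coprime (Nat.card K') := by
    rw [← Nat.card_congr (MonoidHom.ofInjective (SemidirectProduct.inr_injective (φ := φ))).toEquiv,
      ← Nat.card_congr (MonoidHom.ofInjective (SemidirectProduct.inl_injective (φ := φ))).toEquiv]
    exact hcop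
  obtain ⟨_, ⟨x, rfl⟩, _, ⟨y, rfl⟩, hxy⟩ := exists_pair hB K' hAK hc
  have hiff : ∀ (a : A) (k : K), (SemidirectProduct.inr a : K ⋊[φ] A) * SemidirectProduct.inl k =
      SemidirectProduct.inl k * SemidirectProduct.inr a ↔ a • k = k := by
    intro a k
    rw [← mul_inv_eq_iff_eq_mul, ← map_inv, ← SemidirectProduct.inl_aut,
      SemidirectProduct.inl_injective.eq_iff]
    rfl
  refine ⟨x, y, fun a hx hy => FaithfulSMul.eq_of_smul_eq_smul (α := K) fun k => ?_⟩
  rw [one_smul]
  exact (hiff a k).1 (hxy _ ⟨a, rfl⟩ ((hiff a x).2 hx) ((hiff a y).2 hy) _ ⟨k, rfl⟩)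

end H15.BaseRed
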