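import Cfsg.Agent.H15.BaseRed.Linear
import Cfsg.Agent.H1.CoprimeAction
import Cfsg.Agent.H31.InvariantMax
import Cfsg.Agent.H32.PClosed
import Cfsg.Agent.H89.Marks

/-!
Bases of size two (helper15): a coprime solvable group of automorphisms has a base of size two as
soon as this holds for linear actions. The actions of `A` on `K`, on the product of invariant Sylow
subgroups and, for a `p`-group, on the product of the Frattini subgroup and its quotient have the
same marks, so they are isomorphic.
-/

set_option autoImplicit false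
set_option linter.style.haveILetI false
set_option linter.unusedSectionVars false

open scoped Pointwise commutatorElement

namespace H15.BaseRed

universe w

/-- Two points whose common stabiliser is the kernel of the action. -/
def PairSet (A X : Type*) [Group A] [MulAction A X] : Prop :=
  ∃ x y : X, ∀ a : A, a • x = x → a • y = y → ∀ z : X, a • z = z

theorem PairSet.of_equiv {A X Y : Type*} [Group A] [MulAction A X] [MulAction A Y] (e : X ≃ Y)
    (he : ∀ (a : A) (x : X), e (a • x) = a • e x) (h : PairSet A X) : PairSet A Y := by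
  obtain ⟨x, y, hxy⟩ := h
  refine ⟨e x, e y, fun a hx hy z => ?_⟩
  have h1 := hxy a (e.injective (by rw [he, hx])) (e.injective (by rw [he, hy])) (e.symm z)
  conv_rhs => rw [← e.apply_symm_apply z, ← h1, he, e.apply_symm_apply]

theorem PairSet.prod {A X Y : Type*} [Group A] [MulAction A X] [MulAction A Y] (hX : PairSet A X)
    (hY : PairSet A Y) : PairSet A (X × Y) := by
  obtain ⟨x, x', hx⟩ := hX
  obtain ⟨y, y', hy⟩ := hY
  refine ⟨(x, y), (x', y'), fun a h1 h2 z => ?_⟩
  rw [Prod.smul_mk, Prod.ext_iff] at h1 h2
  exact Prod.ext (hx a h1.1 h2.1 z.1) (hy a h1.2 h2.2 z.2)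

theorem PairSet.pi {A ι : Type*} {X : ι → Type*} [Group A] [∀ i, MulAction A (X i)]
    (h : ∀ i, PairSet A (X i)) : PairSet A (∀ i, X i) := by
  choose x y hxy using h
  exact ⟨x, y, fun a h1 h2 z => funext fun i => hxy i a (congrFun h1 i) (congrFun h2 i) (z i)⟩

variable {S : Type w} [Group S] [Finite S] {A : Subgroup S}

/-- Conjugation on a normalised subgroup. -/
@[reducible] def conjOn {K : Subgroup S} (hAK : A ≤ Subgroup.normalizer (K : Set S)) :
    MulAction A K where
  smul a k := ⟨a * k * (a : S)⁻¹, (Subgroup.mem_normalizer_iff.1 (hAK a.2) k).1 k.2⟩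
  one_smul k := Subtype.ext (show ((1 : A) : S) * k * ((1 : A) : S)⁻¹ = k by simp)
  mul_smul a b k := Subtype.ext (show ((a * b : A) : S) * k * ((a * b : A) : S)⁻¹ =
    (a : S) * ((b : S) * k * (b : S)⁻¹) * (a : S)⁻¹ by push_cast; group)

/-- The marks of conjugation. -/
theorem fixCard_conjOn {K : Subgroup S} (hAK : A ≤ Subgroup.normalizer (K : Set S)) (B : Subgroup A) :
    (letI := conjOn hAK; H89.fixCard (N := A) K B) =
      Nat.card ↥(K ⊓ Subgroup.centralizer ((B.map A.subtype : Subgroup S) : Set S)) := by
  letI := conjOn hAK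
  refine Nat.card_congr
    { toFun := fun k => ⟨(k : K), k.1.2, ?_⟩
      invFun := fun k => ⟨⟨k, k.2.1⟩, ?_⟩
      left_inv := fun k => rfl
      right_inv := fun k => rfl }
  · rintro _ ⟨b, hb, rfl⟩
    exact mul_inv_eq_iff_eq_mul.1 (congrArg Subtype.val (MulAction.mem_stabilizer_iff.1 (k.2 hb)))
  · intro b hb
    exact MulAction.mem_stabilizer_iff.2 (Subtype.ext (mul_inv_eq_iff_eq_mul.2
      (k.2.2 (b : S) ⟨b, hb, rfl⟩)))

theorem map_subtype_le_normalizer {K : Subgroup S} (hAK : A ≤ Subgroup.normalizer (K : Set S))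
    (B : Subgroup A) : B.map A.subtype ≤ Subgroup.normalizer (K : Set S) :=
  (Subgroup.map_subtype_le B).trans hAK

theorem coprime_map {K : Subgroup S} (hcop : (Nat.card A).Coprime (Nat.card K)) (B : Subgroup A) :
    (Nat.card ↥(B.map A.subtype)).Coprime (Nat.card K) :=
  hcop.coprime_dvd_left (Subgroup.card_dvd_of_le (Subgroup.map_subtype_le B))

theorem solvable_map [Group.IsSolvable A] (B : Subgroup A) :
    Group.IsSolvable ↥(B.map A.subtype) :=
  H1.isSolvable_mono ‹_› (Subgroup.map_subtype_le B)

/-- An invariant `r`-subgroup lies in an invariant Sylow subgroup. -/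
theorem exists_invariant_sylow_ge {B K R : Subgroup S} (hBK : B ≤ Subgroup.normalizer (K : Set S))
    (hcop : (Nat.card B).Coprime (Nat.card K)) (hsol : Group.IsSolvable B) (r : ℕ) [Fact r.Prime]
    (hR : IsPGroup r R) (hRK : R ≤ K) (hBR : B ≤ Subgroup.normalizer (R : Set S)) :
    ∃ Q : Sylow r K, B ≤ Subgroup.normalizer ((Q : Subgroup K).map K.subtype : Set S) ∧
      R ≤ (Q : Subgroup K).map K.subtype := by
  obtain ⟨Q, ⟨hQp, hQK, hBQ, hRQ⟩, hmax⟩ := Set.Finite.exists_maximal
    (Set.toFinite {Q : Subgroup S | IsPGroup r Q ∧ Q ≤ K ∧ B ≤ Subgroup.normalizer (Q : Set S) ∧ R ≤ Q})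
    ⟨R, hR, hRK, hBR, le_rfl⟩
  -- the normaliser of `Q` inside `K`
  set M : Subgroup S := K ⊓ Subgroup.normalizer (Q : Set S) with hM
  have hBM : B ≤ Subgroup.normalizer (M : Set S) := fun b hb =>
    Subgroup.mem_normalizer_iff.2 fun x => and_congr (Subgroup.mem_normalizer_iff.1 (hBK hb) x)
      (Subgroup.mem_normalizer_iff.1 (Subgroup.le_normalizer (hBQ hb)) x)
  have hcopM : (Nat.card B).Coprime (Nat.card M) :=
    hcop.coprime_dvd_right (Subgroup.card_dvd_of_le inf_le_left)
  obtain ⟨T, hT⟩ := H1.exists_invariant_sylow hBM hcopM (Or.inl hsol) r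
  have hQM : Q ≤ M := le_inf hQK Subgroup.le_normalizer
  haveI hQn : (Q.subgroupOf M).Normal :=
    (Subgroup.normal_subgroupOf_iff_le_normalizer hQM).2 inf_le_right
  have hQT : Q.subgroupOf M ≤ (T : Subgroup M) := by
    obtain ⟨T₂, hT₂⟩ :=
      (hQp.of_equiv (Subgroup.subgroupOfEquivOfLe hQM).symm : IsPGroup r (Q.subgroupOf M)).exists_le_sylow
    obtain ⟨g, hg⟩ := MulAction.exists_smul_eq M T₂ T
    intro x hx
    rw [← hg, Sylow.coe_subgroup_smul, H1.mem_conj_smul_iff]
    refine hT₂ ?_
    have := hQn.conj_mem x hx g⁻¹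
    rwa [inv_inv] at this
  have hQT' : Q ≤ (T : Subgroup M).map M.subtype := fun x hx =>
    ⟨⟨x, hQM hx⟩, hQT (Subgroup.mem_subgroupOf.2 hx), rfl⟩
  have heq : (T : Subgroup M).map M.subtype ≤ Q :=
    hmax ⟨T.isPGroup'.map _, (Subgroup.map_subtype_le _).trans inf_le_left, hT, hRQ.trans hQT'⟩ hQT'
  -- so `Q` is a Sylow subgroup of `K`
  have hQKp : IsPGroup r (Q.subgroupOf K) := hQp.of_equiv (Subgroup.subgroupOfEquivOfLe hQK).symm
  obtain ⟨Q', hQ'⟩ := hQKp.exists_le_sylow
  set Q'' := (Q' : Subgroup K).map K.subtype with hQ''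
  have hle : Q ≤ Q'' := fun x hx => ⟨⟨x, hQK hx⟩, hQ' (Subgroup.mem_subgroupOf.2 hx), rfl⟩
  have hTc : Nat.card T = Nat.card Q := by
    rw [← le_antisymm heq hQT']
    exact Nat.card_congr ((T : Subgroup M).equivMapOfInjective _ M.subtype_injective).toEquiv
  have hQ'eq : Q'' = Q := by
    refine (le_antisymm hle ?_).symm
    by_contra hnle
    have hlt := H32.lt_inf_normalizer_of_lt_pgroup (Q'.isPGroup'.map K.subtype)
      (lt_of_le_of_ne hle fun e => hnle e.ge)
    set N := Subgroup.normalizer (Q : Set S) ⊓ Q'' with hN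
    have hNM : N ≤ M := le_inf (inf_le_right.trans (Subgroup.map_subtype_le _)) inf_le_left
    obtain ⟨T', hT'⟩ := (((Q'.isPGroup'.map K.subtype).to_le inf_le_right : IsPGroup r N).of_equiv
      (Subgroup.subgroupOfEquivOfLe hNM).symm).exists_le_sylow
    have h1 := Subgroup.card_le_of_le hT'
    rw [Nat.card_congr (Subgroup.subgroupOfEquivOfLe hNM).toEquiv, T'.card_eq_multiplicity,
      ← T.card_eq_multiplicity, hTc] at h1
    exact hlt.ne (Subgroup.eq_of_le_of_card_ge hlt.le h1)
  exact ⟨Q', by rw [← hQ'', hQ'eq]; exact hBQ, by rw [← hQ'', hQ'eq]; exact hRQ⟩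

/-- The marks on `K` are the products of the marks on invariant Sylow subgroups. -/
theorem card_fix_sylow {B K : Subgroup S} (hBK : B ≤ Subgroup.normalizer (K : Set S))
    (hcop : (Nat.card B).Coprime (Nat.card K)) (hsol : Group.IsSolvable B) (r : ℕ) [Fact r.Prime]
    (P : Sylow r K) (hP : B ≤ Subgroup.normalizer ((P : Subgroup K).map K.subtype : Set S)) :
    Nat.card ↥((P : Subgroup K).map K.subtype ⊓ Subgroup.centralizer (B : Set S)) =
      r ^ (Nat.card ↥(K ⊓ Subgroup.centralizer (B : Set S))).factorization r := by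
  set C : Subgroup S := K ⊓ Subgroup.centralizer (B : Set S) with hC
  obtain ⟨R⟩ : Nonempty (Sylow r C) := inferInstance
  set R' := (R : Subgroup C).map C.subtype with hR'
  have hR'C : R' ≤ C := Subgroup.map_subtype_le _
  have hR'p : IsPGroup r R' := R.isPGroup'.map _
  have hR'card : Nat.card R' = r ^ (Nat.card C).factorization r := by
    rw [hR', ← Nat.card_congr ((R : Subgroup C).equivMapOfInjective _ C.subtype_injective).toEquiv]
    exact R.card_eq_multiplicity
  have hBR : B ≤ Subgroup.normalizer (R' : Set S) := fun b hb =>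
    Subgroup.mem_normalizer_iff.2 fun x => by
      constructor
      · intro hx
        have hc := (Subgroup.mem_inf.1 (hR'C hx)).2 b hb
        rwa [hc, mul_inv_cancel_right]
      · intro hx
        have hc := (Subgroup.mem_inf.1 (hR'C hx)).2 b hb
        have : b * x * b⁻¹ = x := by
          have h2 : b * (b * x * b⁻¹) * b⁻¹ = b * x * b⁻¹ := by rw [hc, mul_inv_cancel_right]
          exact mul_left_cancel (mul_right_cancel h2)
        rwa [this] at hx
  obtain ⟨Q, hQ, hRQ⟩ := exists_invariant_sylow_ge hBK hcop hsol r hR'p (hR'C.trans inf_le_left) hBR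
  obtain ⟨c, hc, hcP⟩ := H1.exists_fixed_conj_sylow hBK hcop (Or.inl hsol) r P Q hP hQ
  have hconj : MulAut.conj (c : S) • (P : Subgroup K).map K.subtype = (Q : Subgroup K).map K.subtype := by
    rw [← H1.map_subtype_conj_smul, ← Sylow.coe_subgroup_smul]
    exact congrArg (fun T : Sylow r K => (T : Subgroup K).map K.subtype) hcP
  set U := (P : Subgroup K).map K.subtype ⊓ Subgroup.centralizer (B : Set S) with hU
  have hUC : U ≤ C := le_inf (inf_le_left.trans (Subgroup.map_subtype_le _)) inf_le_right
  have hUp : IsPGroup r U := (P.isPGroup'.map K.subtype).to_le inf_le_left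
  apply le_antisymm
  · obtain ⟨T, hT⟩ := (hUp.of_equiv (Subgroup.subgroupOfEquivOfLe hUC).symm).exists_le_sylow
    have h1 := Subgroup.card_le_of_le hT
    rwa [Nat.card_congr (Subgroup.subgroupOfEquivOfLe hUC).toEquiv, T.card_eq_multiplicity] at h1
  · rw [← hR'card, ← H1.card_conj_smul (c : S) U]
    refine Subgroup.card_le_of_le fun x hx => ?_
    rw [H1.mem_conj_smul_iff, hU, Subgroup.mem_inf]
    have hxQ := hRQ hx
    rw [← hconj, H1.mem_conj_smul_iff] at hxQ
    refine ⟨hxQ, ?_⟩
    exact mul_mem (mul_mem (inv_mem hc) (Subgroup.mem_inf.1 (hR'C hx)).2) hc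

variable (hB : CoprimeBase2) [Group.IsSolvable A]
include hB

/-- The case of a `p`-group. -/
theorem pairSet_pgroup {r : ℕ} [Fact r.Prime] (K : Subgroup S) (hK : IsPGroup r K)
    (hAK : A ≤ Subgroup.normalizer (K : Set S)) (hcop : (Nat.card A).Coprime (Nat.card K)) :
    letI := conjOn hAK; PairSet A K := by
  suffices H : ∀ n, ∀ K : Subgroup S, IsPGroup r K → ∀ hAK : A ≤ Subgroup.normalizer (K : Set S),
      (Nat.card A).Coprime (Nat.card K) → Nat.card K = n → (letI := conjOn hAK; PairSet A K) from
    H _ K hK hAK hcop rfl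
  intro n
  induction n using Nat.strong_induction_on with
  | _ n ih =>
    intro K hK hAK hcop hn
    letI := conjOn hAK
    by_cases htriv : K = ⊥
    · refine ⟨1, 1, fun a _ _ z => Subtype.ext ?_⟩
      have hz : ∀ y : K, (y : S) = 1 := fun y => Subgroup.mem_bot.1 (htriv ▸ y.2)
      rw [hz, hz]
    haveI : Nontrivial K := (Subgroup.nontrivial_iff_ne_bot K).2 htriv
    -- the automorphisms induced by `A`
    let act : A → K ≃* K := fun a =>
      { toFun := fun k => a • k
        invFun := fun k => a⁻¹ • k
        left_inv := fun k => inv_smul_smul a k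
        right_inv := fun k => smul_inv_smul a k
        map_mul' := fun x y => Subtype.ext (by
          show (a : S) * ((x * y : K) : S) * (a : S)⁻¹ =
            ((a : S) * x * (a : S)⁻¹) * ((a : S) * y * (a : S)⁻¹)
          push_cast; group) }
    have hmem : ∀ (a : A) (x : K), x ∈ frattini K → a • x ∈ frattini K := fun a x hx => by
      have h1 := Subgroup.characteristic_iff_comap_eq.1 (inferInstance : (frattini K).Characteristic)
        (act a)
      exact (h1.symm ▸ hx : x ∈ (frattini K).comap (act a).toMonoidHom)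
    -- the Frattini subgroup
    set F : Subgroup S := (frattini K).map K.subtype with hF
    have hFK : F ≤ K := Subgroup.map_subtype_le _
    have hAF : A ≤ Subgroup.normalizer (F : Set S) := fun a ha => by
      refine Subgroup.mem_normalizer_iff.2 fun x => ⟨?_, ?_⟩
      · rintro ⟨y, hy, rfl⟩
        exact ⟨(⟨a, ha⟩ : A) • y, hmem _ y hy, rfl⟩
      · rintro ⟨y, hy, hye⟩
        refine ⟨(⟨a, ha⟩ : A)⁻¹ • y, hmem _ y hy, ?_⟩
        show a⁻¹ * ((y : K) : S) * a⁻¹⁻¹ = x
        rw [show ((y : K) : S) = a * x * a⁻¹ from hye]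
        group
    have hFlt : Nat.card F < n := by
      rw [hF, ← Nat.card_congr ((frattini K).equivMapOfInjective _ K.subtype_injective).toEquiv, ← hn]
      refine lt_of_le_of_ne (Subgroup.card_le_card_group _) fun he => ?_
      obtain ⟨M, hM, -⟩ := (eq_top_or_exists_le_coatom (⊥ : Subgroup K)).resolve_left bot_ne_top
      exact hM.1 (top_le_iff.1 ((Subgroup.eq_top_of_card_eq _ he) ▸ frattini_le_coatom hM))
    have hFcop : (Nat.card A).Coprime (Nat.card F) :=
      hcop.coprime_dvd_right (Subgroup.card_dvd_of_le hFK)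
    -- the quotient
    have hcomm : ∀ x y : K ⧸ frattini K, x * y = y * x := by
      intro x y
      induction x using QuotientGroup.induction_on with
      | H x =>
        induction y using QuotientGroup.induction_on with
        | H y =>
          refine QuotientGroup.eq.2 (H31.commutator_le_frattini hK ?_)
          rw [show (x * y)⁻¹ * (y * x) = ⁅y⁻¹, x⁻¹⁆ by rw [commutatorElement_def]; group]
          exact Subgroup.commutator_mem_commutator (Subgroup.mem_top _) (Subgroup.mem_top _)
    letI : CommGroup (K ⧸ frattini K) := { (inferInstance : Group (K ⧸ frattini K)) with mul_comm := hcomm }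
    let qact : A → (K ⧸ frattini K) →* (K ⧸ frattini K) := fun a =>
      QuotientGroup.map _ _ (act a).toMonoidHom fun x hx => hmem a x hx
    have hqact : ∀ (a : A) (x : K), qact a (x : K ⧸ frattini K) = ((a • x : K) : K ⧸ frattini K) :=
      fun a x => rfl
    letI : DistribMulAction A (Additive (K ⧸ frattini K)) :=
      { smul := fun a v => Additive.ofMul (qact a v.toMul)
        one_smul := fun v => by
          induction v using Additive.rec with
          | ofMul x =>
            induction x using QuotientGroup.induction_on with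
            | H x => exact congrArg Additive.ofMul ((hqact 1 x).trans (by rw [one_smul]))
        mul_smul := fun a b v => by
          induction v using Additive.rec with
          | ofMul x =>
            induction x using QuotientGroup.induction_on with
            | H x => exact congrArg Additive.ofMul ((hqact (a * b) x).trans (by rw [mul_smul]; rfl))
        smul_zero := fun a => congrArg Additive.ofMul (map_one (qact a))
        smul_add := fun a v v' => congrArg Additive.ofMul (map_mul (qact a) v.toMul v'.toMul) }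
    have hexp : ∀ v : Additive (K ⧸ frattini K), r • v = 0 := fun v => by
      induction v using Additive.rec with
      | ofMul x =>
        induction x using QuotientGroup.induction_on with
        | H x =>
          rw [← ofMul_pow, ← QuotientGroup.mk_pow]
          exact congrArg Additive.ofMul ((QuotientGroup.eq_one_iff _).2 (H31.pow_mem_frattini hK x))
    have hqpair : PairSet A (Additive (K ⧸ frattini K)) :=
      hB.hasPair (Fact.out : r.Prime) hexp (hcop.coprime_dvd_right
        (by rw [Nat.card_congr Additive.toMul]; exact Subgroup.card_quotient_dvd_card _))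
    letI := conjOn hAF
    have hFpair : PairSet A F := ih _ hFlt F (hK.to_le hFK) hAF hFcop rfl
    -- equal marks
    have hmarks : ∀ B : Subgroup A, H89.fixCard (N := A) (F × Additive (K ⧸ frattini K)) B =
        H89.fixCard (N := A) K B := by
      intro B
      set B' : Subgroup S := B.map A.subtype with hB'
      have hprod : H89.fixCard (N := A) (F × Additive (K ⧸ frattini K)) B =
          H89.fixCard (N := A) F B * H89.fixCard (N := A) (Additive (K ⧸ frattini K)) B := by
        simp only [H89.fixCard, ← Nat.card_prod]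
        refine Nat.card_congr
          { toFun := fun x => (⟨x.1.1, fun b hb => ?_⟩, ⟨x.1.2, fun b hb => ?_⟩)
            invFun := fun x => ⟨(x.1.1, x.2.1), fun b hb => ?_⟩
            left_inv := fun x => rfl
            right_inv := fun x => rfl }
        · exact MulAction.mem_stabilizer_iff.2 (congrArg Prod.fst (MulAction.mem_stabilizer_iff.1 (x.2 hb)))
        · exact MulAction.mem_stabilizer_iff.2 (congrArg Prod.snd (MulAction.mem_stabilizer_iff.1 (x.2 hb)))
        · exact MulAction.mem_stabilizer_iff.2 (Prod.ext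
            (MulAction.mem_stabilizer_iff.1 (x.1.2 hb)) (MulAction.mem_stabilizer_iff.1 (x.2.2 hb)))
      set C : Subgroup K := (K ⊓ Subgroup.centralizer (B' : Set S)).subgroupOf K with hC
      have hCc : Nat.card C = H89.fixCard (N := A) K B := by
        rw [fixCard_conjOn, hC, Nat.card_congr (Subgroup.subgroupOfEquivOfLe inf_le_left).toEquiv]
      have hker : Nat.card ↥(C ⊓ frattini K) = H89.fixCard (N := A) F B := by
        rw [fixCard_conjOn, Nat.card_congr ((C ⊓ frattini K).equivMapOfInjective _
          K.subtype_injective).toEquiv, Subgroup.map_inf _ _ _ K.subtype_injective, ← hF, hC,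
          Subgroup.subgroupOf_map_subtype, inf_eq_left.2 inf_le_left, inf_comm, ← inf_assoc,
          inf_eq_left.2 hFK]
      have himg : Nat.card ↥(C.map (QuotientGroup.mk' (frattini K))) =
          H89.fixCard (N := A) (Additive (K ⧸ frattini K)) B := by
        refine Nat.card_congr (Equiv.subtypeEquiv Additive.ofMul fun q => ⟨?_, ?_⟩)
        · rintro ⟨k, hk, rfl⟩ b hb
          refine MulAction.mem_stabilizer_iff.2 ?_
          show Additive.ofMul (qact b (k : K ⧸ frattini K)) = Additive.ofMul (k : K ⧸ frattini K)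
          rw [hqact]
          congr 2
          exact Subtype.ext (mul_inv_eq_iff_eq_mul.2
            ((Subgroup.mem_inf.1 (Subgroup.mem_subgroupOf.1 hk)).2 (b : S) ⟨b, hb, rfl⟩))
        · intro hq
          induction q using QuotientGroup.induction_on with
          | H k =>
            obtain ⟨c, hc, hkc⟩ := H1.exists_fixed_mem_coset_of_le (A := B') (K := K) (N := F) hFK
              (map_subtype_le_normalizer hAF B) (coprime_map hcop B) (Or.inl (solvable_map B)) k.2
              (by
                rintro _ ⟨b, hb, rfl⟩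
                have h1 : ((b • k : K) : K ⧸ frattini K) = (k : K ⧸ frattini K) :=
                  (hqact b k).symm.trans (congrArg Additive.toMul (MulAction.mem_stabilizer_iff.1 (hq hb)))
                exact ⟨_, QuotientGroup.eq.1 h1.symm, rfl⟩)
            obtain ⟨z, hz, hze⟩ := hkc
            refine ⟨⟨c, hc.1⟩, Subgroup.mem_subgroupOf.2 hc, (QuotientGroup.eq.2 ?_).symm⟩
            rw [show k⁻¹ * (⟨c, hc.1⟩ : K) = z from Subtype.ext hze.symm]
            exact hz
      have hlag : Nat.card C = Nat.card ↥(C ⊓ frattini K) *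
          Nat.card ↥(C.map (QuotientGroup.mk' (frattini K))) := by
        rw [Subgroup.card_eq_card_quotient_mul_card_subgroup ((frattini K).subgroupOf C), mul_comm]
        congr 1
        · rw [← Subgroup.inf_subgroupOf_left,
            Nat.card_congr (Subgroup.subgroupOfEquivOfLe inf_le_left).toEquiv]
        · have e : (frattini K).subgroupOf C = ((QuotientGroup.mk' (frattini K)).comp C.subtype).ker := by
            rw [← MonoidHom.comap_ker, QuotientGroup.ker_mk']; rfl
          rw [Nat.card_congr (Subgroup.quotientEquivOfEq e),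
            Nat.card_congr (QuotientGroup.quotientKerEquivRange _).toEquiv, MonoidHom.range_comp,
            Subgroup.range_subtype]
      rw [hprod, ← hker, ← himg, ← hlag, hCc]
    obtain ⟨e, he⟩ := H89.exists_equivariant_of_fixCard hmarks
    exact (hFpair.prod hqpair).of_equiv e he

/-- The general case. -/
theorem pairSet_of_coprime (K : Subgroup S)
    (hAK : A ≤ Subgroup.normalizer (K : Set S)) (hcop : (Nat.card A).Coprime (Nat.card K)) :
    letI := conjOn hAK; PairSet A K := by
  classical
  letI := conjOn hAK
  have hK0 : Nat.card K ≠ 0 := Nat.card_pos.ne'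
  let ι : Type := {r // r ∈ (Nat.card K).primeFactors}
  have hfact : ∀ r : ι, Fact (r : ℕ).Prime := fun r => ⟨Nat.prime_of_mem_primeFactors r.2⟩
  choose P hP using fun r : ι => haveI := hfact r
    H1.exists_invariant_sylow hAK hcop (Or.inl ‹Group.IsSolvable A›) (r : ℕ)
  let X : ι → Subgroup S := fun r => haveI := hfact r; (P r : Subgroup K).map K.subtype
  letI : ∀ r, MulAction A (X r) := fun r => conjOn (hP r)
  have hXpair : ∀ r, PairSet A (X r) := fun r => by
    haveI := hfact r
    exact pairSet_pgroup hB (X r) ((P r).isPGroup'.map K.subtype) (hP r)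
      (hcop.coprime_dvd_right (Subgroup.card_dvd_of_le (Subgroup.map_subtype_le _)))
  have hmarks : ∀ B : Subgroup A, H89.fixCard (N := A) (∀ r, X r) B = H89.fixCard (N := A) K B := by
    intro B
    set B' : Subgroup S := B.map A.subtype with hB'
    have hpi : H89.fixCard (N := A) (∀ r, X r) B = ∏ r : ι, H89.fixCard (N := A) (X r) B := by
      simp only [H89.fixCard, ← Nat.card_pi]
      exact Nat.card_congr
        { toFun := fun x r => ⟨x.1 r, fun b hb =>
            MulAction.mem_stabilizer_iff.2 (congrFun (MulAction.mem_stabilizer_iff.1 (x.2 hb)) r)⟩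
          invFun := fun x => ⟨fun r => (x r).1, fun b hb =>
            MulAction.mem_stabilizer_iff.2 (funext fun r => MulAction.mem_stabilizer_iff.1 ((x r).2 hb))⟩
          left_inv := fun x => rfl
          right_inv := fun x => rfl }
    rw [hpi, fixCard_conjOn]
    set c := Nat.card ↥(K ⊓ Subgroup.centralizer (B' : Set S)) with hc
    have hterm : ∀ r : ι, H89.fixCard (N := A) (X r) B = (r : ℕ) ^ c.factorization r := fun r => by
      haveI := hfact r
      rw [fixCard_conjOn]
      exact card_fix_sylow (map_subtype_le_normalizer hAK B) (coprime_map hcop B) (solvable_map B)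
        (r : ℕ) (P r) (map_subtype_le_normalizer (hP r) B)
    rw [Finset.prod_congr rfl fun r _ => hterm r,
      Finset.prod_coe_sort (Nat.card K).primeFactors (fun r => r ^ c.factorization r),
      ← Finset.prod_subset (Nat.primeFactors_mono (Subgroup.card_dvd_of_le inf_le_left) hK0)
        fun r _ hr => by
          rw [← Nat.support_factorization, Finsupp.notMem_support_iff] at hr
          rw [hr, pow_zero]]
    exact Nat.prod_factorization_pow_eq_self Nat.card_pos.ne'
  obtain ⟨e, he⟩ := H89.exists_equivariant_of_fixCard hmarks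
  exact (PairSet.pi hXpair).of_equiv e he

/-- Two elements of `K` whose common centraliser in `A` is that of `K`. -/
theorem exists_pair (K : Subgroup S)
    (hAK : A ≤ Subgroup.normalizer (K : Set S)) (hcop : (Nat.card A).Coprime (Nat.card K)) :
    ∃ x ∈ K, ∃ y ∈ K, ∀ a ∈ A, a * x = x * a → a * y = y * a → ∀ k ∈ K, a * k = k * a := by
  letI := conjOn hAK
  obtain ⟨x, y, hxy⟩ := pairSet_of_coprime hB K hAK hcop
  refine ⟨x, x.2, y, y.2, fun a ha hx hy k hk => ?_⟩
  exact mul_inv_eq_iff_eq_mul.1 (congrArg Subtype.val (hxy ⟨a, ha⟩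
    (Subtype.ext (mul_inv_eq_iff_eq_mul.2 hx)) (Subtype.ext (mul_inv_eq_iff_eq_mul.2 hy)) ⟨k, hk⟩))

end H15.BaseRed
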