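import Cfsg.Agent.H35.OddBase.Basic

/-!
Bases of size two (helper15): the linear statement used by the reductions, and its form in any
universe.
-/

set_option autoImplicit false
set_option linter.style.haveILetI false
set_option linter.unusedSectionVars false

namespace H15.BaseRed

/-- Every solvable coprime linear action on an elementary abelian group has a base of size two. -/
def CoprimeBase2 : Prop :=
  ∀ (G V : Type) [Group G] [Finite G] [Group.IsSolvable G] [AddCommGroup V] [Finite V]
    [DistribMulAction G V] (p : ℕ), p.Prime → (∀ v : V, p • v = 0) →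
      (Nat.card G).Coprime (Nat.card V) → H35.OddBase.HasPair G V

universe u v

/-- The linear statement in any universe. -/
theorem CoprimeBase2.hasPair (hB : CoprimeBase2) {G : Type u} {V : Type v} [Group G] [Finite G]
    [Group.IsSolvable G] [AddCommGroup V] [Finite V] [DistribMulAction G V] {p : ℕ} (hp : p.Prime)
    (hexp : ∀ v : V, p • v = 0) (hcop : (Nat.card G).Coprime (Nat.card V)) :
    H35.OddBase.HasPair G V := by
  obtain ⟨G', iG, fG, ⟨eG⟩⟩ := Finite.exists_type_univ_nonempty_mulEquiv.{u, 0} G
  haveI : Finite G' := Finite.of_fintype G'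
  haveI : Small.{0} V := inferInstance
  let e : Shrink.{0} V ≃+ V := Shrink.addEquiv
  haveI : Finite (Shrink.{0} V) := Finite.of_equiv V e.toEquiv.symm
  haveI : Group.IsSolvable G' :=
    Group.isSolvable_of_surjective (f := eG.toMonoidHom) eG.surjective
  letI : DistribMulAction G' (Shrink.{0} V) :=
    { smul := fun g x => e.symm (eG.symm g • e x)
      one_smul := fun x => by show e.symm (eG.symm 1 • e x) = x; simp
      mul_smul := fun g h x => by
        show e.symm (eG.symm (g * h) • e x) = e.symm (eG.symm g • e (e.symm (eG.symm h • e x)))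
        simp [mul_smul]
      smul_zero := fun g => by show e.symm (eG.symm g • e 0) = 0; simp
      smul_add := fun g x y => by
        show e.symm (eG.symm g • e (x + y)) = e.symm (eG.symm g • e x) + e.symm (eG.symm g • e y)
        simp [smul_add] }
  obtain ⟨v, w, hvw⟩ := hB G' (Shrink.{0} V) p hp
    (fun x => e.injective (by rw [map_nsmul, hexp, map_zero]))
    (by rwa [Nat.card_congr eG.toEquiv.symm, Nat.card_congr e.toEquiv])
  refine ⟨e v, e w, fun g hv hw x => ?_⟩
  have h1 := hvw (eG g)
    (by show e.symm (eG.symm (eG g) • e v) = v
        rw [eG.symm_apply_apply, hv, e.symm_apply_apply])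
    (by show e.symm (eG.symm (eG g) • e w) = w
        rw [eG.symm_apply_apply, hw, e.symm_apply_apply]) (e.symm x)
  have h2 : e.symm (eG.symm (eG g) • e (e.symm x)) = e.symm x := h1
  rw [eG.symm_apply_apply, e.apply_symm_apply] at h2
  exact e.symm.injective h2

end H15.BaseRed
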