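import Cfsg.Agent.H15.BaseRed.Coprime
import Cfsg.Agent.H80.PiGroups
import Cfsg.Agent.H72.PiSeparable

/-!
Bases of size two (helper15): Hall subgroups of `π`-solvable groups meet two conjugates in the
`π`-core.
-/

set_option autoImplicit false
set_option linter.style.haveILetI false
set_option linter.unusedSectionVars false

open scoped Pointwise

namespace H15.BaseRed

universe u

/-- The `π`-solvable chain condition. -/
def PiSolv (π : Set ℕ) (G : Type u) [Group G] : Prop :=
  ∃ (n : ℕ) (N : Fin (n + 1) → Subgroup G), N 0 = ⊥ ∧ N (Fin.last n) = ⊤ ∧ Monotone N ∧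
    (∀ i, (N i).Normal) ∧
      ∀ i : Fin n, (∃ p ∈ π, p.Prime ∧ ∃ k : ℕ, (N i.castSucc).relIndex (N i.succ) = p ^ k) ∨
        (∀ q : ℕ, q.Prime → q ∣ (N i.castSucc).relIndex (N i.succ) → q ∉ π)

variable {G : Type u} [Group G] [Finite G] {π : Set ℕ}

theorem PiSolv.quotient (h : PiSolv π G) (O : Subgroup G) [O.Normal] : PiSolv π (G ⧸ O) := by
  obtain ⟨n, N, h0, hn, hmono, hnor, hstep⟩ := h
  refine ⟨n, fun i => (N i).map (QuotientGroup.mk' O), by simp only [h0, Subgroup.map_bot],
    by simp only [hn]; exact Subgroup.map_top_of_surjective _ (QuotientGroup.mk'_surjective O),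
    fun i j hij => Subgroup.map_mono (hmono hij),
    fun i => (hnor i).map _ (QuotientGroup.mk'_surjective O), fun i => ?_⟩
  haveI := hnor i.castSucc
  have hd := H72.relIndex_map_dvd_of_le (QuotientGroup.mk' O) (hmono (Fin.castSucc_lt_succ (i := i)).le)
  rcases hstep i with ⟨p, hp, hpp, k, hk⟩ | h'
  · rw [hk] at hd
    obtain ⟨j, -, hj⟩ := (Nat.dvd_prime_pow hpp).1 hd
    exact Or.inl ⟨p, hp, hpp, j, hj⟩
  · exact Or.inr fun q hq hqd => h' q hq (hqd.trans hd)

theorem relIndex_dvd_of_le {N N' Y : Subgroup G} [N.Normal] (hY : Y ≤ N') :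
    N.relIndex Y ∣ N.relIndex N' := by
  rw [← Subgroup.relIndex_subgroupOf hY]
  exact Subgroup.relIndex_dvd_index_of_normal _ _

/-- The `π'`-core contains its centraliser if the `π`-core is trivial. -/
theorem centralizer_le (h : PiSolv π G) (hO : Cfsg.piCore π G = ⊥) :
    Subgroup.centralizer ((Cfsg.piCore {q | q ∉ π} G : Subgroup G) : Set G) ≤
      Cfsg.piCore {q | q ∉ π} G := by
  classical
  obtain ⟨n, N, h0, hn, hmono, hnor, hstep⟩ := h
  set K := Cfsg.piCore {q | q ∉ π} G with hK
  set C := Subgroup.centralizer ((K : Subgroup G) : Set G) with hC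
  haveI hCn : C.Normal := Subgroup.normal_centralizer (H := K)
  suffices hall : ∀ i, C ⊓ N i ≤ K by
    have := hall (Fin.last n)
    rwa [hn, inf_top_eq] at this
  intro i
  induction i using Fin.induction with
  | zero => rw [h0, inf_bot_eq]; exact bot_le
  | succ i ih =>
    haveI := hnor i.castSucc
    haveI := hnor i.succ
    set Y := C ⊓ N i.succ with hY
    haveI hYn : Y.Normal := inferInstanceAs (C ⊓ N i.succ).Normal
    set Y₀ := C ⊓ N i.castSucc with hY₀
    have hY₀Y : Y₀ ≤ Y := inf_le_inf_left _ (hmono (Fin.castSucc_lt_succ (i := i)).le)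
    have hidx : Y₀.relIndex Y ∣ (N i.castSucc).relIndex (N i.succ) := by
      have e : Y₀.relIndex Y = (N i.castSucc).relIndex Y := by
        rw [← Subgroup.inf_relIndex_right (N i.castSucc) Y]
        congr 1
        rw [hY, hY₀, inf_left_comm,
          inf_eq_left.2 (hmono (Fin.castSucc_lt_succ (i := i)).le)]
      rw [e]
      exact relIndex_dvd_of_le inf_le_right
    rcases hstep i with ⟨p, hpπ, hp, k, hk⟩ | h'
    · -- a `p`-factor
      rw [hk] at hidx
      haveI := Fact.mk hp
      set Z := (Y ⊓ K).subgroupOf Y with hZ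
      have hZidx : Z.index ∣ p ^ k :=
        dvd_trans (Subgroup.relIndex_dvd_of_le_left Y (le_inf hY₀Y ih : Y₀ ≤ Y ⊓ K)) hidx
      obtain ⟨P⟩ : Nonempty (Sylow p Y) := inferInstance
      have hsup : Z ⊔ (P : Subgroup Y) = ⊤ := by
        rw [← Subgroup.index_eq_one]
        obtain ⟨j, -, hj⟩ := (Nat.dvd_prime_pow hp).1
          ((Subgroup.index_dvd_of_le (le_sup_left : Z ≤ Z ⊔ (P : Subgroup Y))).trans hZidx)
        rcases Nat.eq_zero_or_pos j with rfl | hj0
        · rw [hj, pow_zero]
        · exact absurd ((hj ▸ dvd_pow_self p hj0.ne' : p ∣ (Z ⊔ (P : Subgroup Y)).index).trans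
            (Subgroup.index_dvd_of_le le_sup_right)) P.not_dvd_index
      haveI hPn : (P : Subgroup Y).Normal := by
        refine Subgroup.normalizer_eq_top_iff.1 (top_le_iff.1 (hsup ▸ sup_le ?_ Subgroup.le_normalizer))
        intro z hz
        refine Subgroup.mem_normalizer_iff.2 fun w => ?_
        have hzw : z * w = w * z := Subtype.ext (by
          have hzK : (z : G) ∈ K := (Subgroup.mem_inf.1 (Subgroup.mem_subgroupOf.1 hz)).2
          exact Subgroup.mem_centralizer_iff.1 (Subgroup.mem_inf.1 w.2).1 z hzK)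
        rw [hzw, mul_inv_cancel_right]
      haveI := Sylow.characteristic_of_normal P hPn
      set P' := (P : Subgroup Y).map Y.subtype with hP'
      haveI hP'n : P'.Normal := ConjAct.normal_of_characteristic_of_normal
      have hP'1 : P' = ⊥ := by
        refine le_bot_iff.1 (hO ▸ H80.le_piCore hP'n ?_)
        intro q hq hqd
        obtain ⟨m, hm⟩ := IsPGroup.iff_card.1 (P.isPGroup'.map Y.subtype)
        rw [hm] at hqd
        rwa [(Nat.prime_dvd_prime_iff_eq hq hp).1 (hq.dvd_of_dvd_pow hqd)]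
      have hP1 : (P : Subgroup Y) = ⊥ := by
        rw [hP', Subgroup.map_eq_bot_iff_of_injective _ Y.subtype_injective] at hP'1
        exact hP'1
      rw [hP1, sup_bot_eq] at hsup
      intro y hy
      exact (Subgroup.mem_inf.1 (Subgroup.mem_subgroupOf.1
        (hsup ▸ Subgroup.mem_top (⟨y, hy⟩ : Y) : (⟨y, hy⟩ : Y) ∈ Z))).2
    · -- a `π'`-factor
      refine H80.le_piCore hYn fun q hq hqd => ?_
      have hcard : Nat.card Y = Nat.card Y₀ * Y₀.relIndex Y := by
        have := (Y₀.subgroupOf Y).card_mul_index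
        rw [Nat.card_congr (Subgroup.subgroupOfEquivOfLe hY₀Y).toEquiv] at this
        exact this.symm
      rw [hcard] at hqd
      rcases hq.dvd_mul.1 hqd with h1 | h1
      · exact H80.piCore_piGrp _ q hq (h1.trans (Subgroup.card_dvd_of_le ih))
      · exact h' q hq (h1.trans hidx)

/-- A `π`-subgroup of a `π`-solvable group is solvable. -/
theorem isSolvable_of_piGrp (h : PiSolv π G) {H : Subgroup G} (hH : H80.IsPiGrp π H) :
    Group.IsSolvable H := by
  classical
  obtain ⟨n, N, h0, hn, hmono, hnor, hstep⟩ := h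
  suffices hall : ∀ i, Group.IsSolvable ↥(H ⊓ N i) by
    have := hall (Fin.last n)
    rw [hn, inf_top_eq] at this
    exact this
  intro i
  induction i using Fin.induction with
  | zero =>
    haveI : Subsingleton ↥(H ⊓ N 0) := by
      rw [h0, inf_bot_eq]
      infer_instance
    exact Group.isSolvable_of_comm fun _ _ => Subsingleton.elim _ _
  | succ i ih =>
    haveI := hnor i.castSucc
    set Y := H ⊓ N i.succ with hY
    set Y₀ := H ⊓ N i.castSucc with hY₀
    have hY₀Y : Y₀ ≤ Y := inf_le_inf_left _ (hmono (Fin.castSucc_lt_succ (i := i)).le)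
    set Z := (N i.castSucc).subgroupOf Y with hZ
    haveI : Group.IsSolvable Z := by
      haveI := ih
      refine Group.isSolvable_of_isSolvable_injective
        (f := (Y.subtype.comp Z.subtype).codRestrict Y₀ fun z =>
          ⟨(z : Y).2.1, Subgroup.mem_subgroupOf.1 z.2⟩) fun x y hxy => ?_
      exact Subtype.ext (Subtype.ext (congrArg (fun w : Y₀ => (w : G)) hxy))
    haveI : Group.IsSolvable (Y ⧸ Z) := by
      have hidx : Z.index ∣ (N i.castSucc).relIndex (N i.succ) :=
        relIndex_dvd_of_le (G := G) inf_le_right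
      have hcard : Nat.card (Y ⧸ Z) ∣ Nat.card H :=
        (Subgroup.card_quotient_dvd_card _).trans (Subgroup.card_dvd_of_le inf_le_left)
      rw [Subgroup.index_eq_card] at hidx
      rcases hstep i with ⟨p, -, hp, k, hk⟩ | h'
      · haveI := Fact.mk hp
        rw [hk] at hidx
        obtain ⟨j, -, hj⟩ := (Nat.dvd_prime_pow hp).1 hidx
        haveI := (IsPGroup.of_card hj : IsPGroup p (Y ⧸ Z)).isNilpotent
        infer_instance
      · have h1 : Nat.card (Y ⧸ Z) = 1 := by
          by_contra hne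
          obtain ⟨q, hq, hqd⟩ := Nat.exists_prime_and_dvd hne
          exact h' q hq (hqd.trans hidx) (hH q hq (hqd.trans hcard))
        haveI := (Nat.card_eq_one_iff_unique.1 h1).1
        exact Group.isSolvable_of_comm fun _ _ => Subsingleton.elim _ _
    exact Group.isSolvable_of_ker_le_range Z.subtype (QuotientGroup.mk' Z) (by
      rw [QuotientGroup.ker_mk', Subgroup.range_subtype])

/-- A Hall subgroup meets two of its conjugates in the `π`-core. -/
theorem exists_conj_inf (hB : CoprimeBase2) (h : PiSolv π G) {H : Subgroup G}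
    (hH : Cfsg.IsPiHall π H) :
    ∃ x y : G, H ⊓ MulAut.conj x • H ⊓ MulAut.conj y • H = Cfsg.piCore π G := by
  classical
  set O := Cfsg.piCore π G with hO
  have hOH : O ≤ H := by
    have hsup : H80.IsPiGrp π (H ⊔ O) := H80.piGrp_sup_normal hH.1 (H80.piCore_piGrp π)
    have h1 : H.relIndex (H ⊔ O) = 1 := by
      by_contra hne
      obtain ⟨q, hq, hqd⟩ := Nat.exists_prime_and_dvd hne
      exact hH.2 q hq (hsup q hq (hqd.trans (Subgroup.relIndex_dvd_card _ _)))
        (hqd.trans (Subgroup.relIndex_dvd_index_of_le le_sup_left))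
    exact le_sup_right.trans (Subgroup.relIndex_eq_one.1 h1)
  set f := QuotientGroup.mk' O with hf
  have hfs : Function.Surjective f := QuotientGroup.mk'_surjective O
  have hO1 : Cfsg.piCore π (G ⧸ O) = ⊥ := by
    set Q := Cfsg.piCore π (G ⧸ O) with hQ
    have h1 : Q.comap f ≤ O := by
      refine H80.le_piCore inferInstance fun q hq hqd => ?_
      have e1 := (Q.comap f).card_mul_index
      rw [Subgroup.index_comap_of_surjective _ hfs,
        O.card_eq_card_quotient_mul_card_subgroup, ← Q.card_mul_index] at e1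
      have hidx : Q.index ≠ 0 := fun h0 => by
        have h2 := Q.card_mul_index
        rw [h0, mul_zero] at h2
        exact Nat.card_pos.ne h2
      rw [mul_right_comm] at e1
      rw [Nat.eq_of_mul_eq_mul_right (Nat.pos_of_ne_zero hidx) e1] at hqd
      rcases hq.dvd_mul.1 hqd with h2 | h2
      · exact H80.piCore_piGrp π q hq h2
      · exact H80.piCore_piGrp π q hq h2
    refine le_bot_iff.1 ?_
    rw [← Subgroup.map_comap_eq_self_of_surjective hfs Q]
    exact (Subgroup.map_mono h1).trans (QuotientGroup.map_mk'_self O).le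
  set H' := H.map f with hH'
  set K := Cfsg.piCore {q | q ∉ π} (G ⧸ O) with hK
  have hH'p : H80.IsPiGrp π H' := H80.piGrp_map f hH.1
  have hcop : (Nat.card H').Coprime (Nat.card K) := by
    by_contra hnc
    obtain ⟨q, hq, hq1, hq2⟩ := Nat.Prime.not_coprime_iff_dvd.1 hnc
    exact H80.piCore_piGrp _ q hq hq2 (hH'p q hq hq1)
  haveI : Group.IsSolvable H' := isSolvable_of_piGrp (h.quotient O) hH'p
  haveI : K.Normal := by rw [hK]; infer_instance
  obtain ⟨a, ha, b, hb, hab⟩ := exists_pair hB K (A := H')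
    (by rw [Subgroup.normalizer_eq_top]; exact le_top) hcop
  obtain ⟨x, rfl⟩ := hfs a
  obtain ⟨y, rfl⟩ := hfs b
  refine ⟨x, y, le_antisymm ?_ ?_⟩
  · rintro g hg
    obtain ⟨⟨hg1, hg2⟩, hg3⟩ : (g ∈ H ∧ g ∈ MulAut.conj x • H) ∧ g ∈ MulAut.conj y • H :=
      ⟨⟨hg.1.1, hg.1.2⟩, hg.2⟩
    have hgH : f g ∈ H' := ⟨g, hg1, rfl⟩
    have hkey : ∀ z : G, f z ∈ K → g ∈ MulAut.conj z • H → f g * f z = f z * f g := by
      intro z hz hgz
      rw [H1.mem_conj_smul_iff] at hgz
      set h0 := z⁻¹ * g * z with hh0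
      have hd : (f h0)⁻¹ * f g ∈ H' ⊓ K := by
        refine Subgroup.mem_inf.2 ⟨mul_mem (inv_mem ⟨h0, hgz, rfl⟩) hgH, ?_⟩
        have : (f h0)⁻¹ * f g = (f z)⁻¹ * ((f g)⁻¹ * f z * f g) := by
          rw [hh0, map_mul, map_mul, map_inv]; group
        rw [this]
        refine mul_mem (inv_mem hz) ?_
        have := Subgroup.Normal.conj_mem ‹K.Normal› _ hz (f g)⁻¹
        rwa [inv_inv] at this
      rw [Subgroup.inf_eq_bot_of_coprime hcop, Subgroup.mem_bot, inv_mul_eq_one] at hd
      rw [hh0, map_mul, map_mul, map_inv, mul_assoc, inv_mul_eq_iff_eq_mul] at hd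
      exact hd
    have hall := hab (f g) hgH (hkey x ha hg2) (hkey y hb hg3)
    have hgK : f g ∈ K := centralizer_le (h.quotient O) hO1
      (Subgroup.mem_centralizer_iff.2 fun k hk => (hall k hk).symm)
    have h1 : f g ∈ H' ⊓ K := ⟨hgH, hgK⟩
    rw [Subgroup.inf_eq_bot_of_coprime hcop, Subgroup.mem_bot] at h1
    exact (QuotientGroup.eq_one_iff g).1 h1
  · intro g hg
    have hconj : ∀ z : G, g ∈ MulAut.conj z • H := fun z => by
      rw [H1.mem_conj_smul_iff]
      refine hOH ?_
      have := Subgroup.Normal.conj_mem (inferInstance : O.Normal) g hg z⁻¹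
      rwa [inv_inv] at this
    exact ⟨⟨hOH hg, hconj x⟩, hconj y⟩

end H15.BaseRed
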