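import Cfsg.Agent.H15.BaseRed.Action
import Cfsg.Agent.H15.BaseRed.PiSolvable

/-!
Bases of size two (helper15): the two reductions with the linear statement in the form agreed with
helper21 and helper27.
-/

set_option autoImplicit false

open scoped Pointwise

namespace H15.BaseRed

theorem coprimeBase2_of
    (hpair : ∀ (G V : Type) [Group G] [Finite G] [AddCommGroup V] [Finite V] [DistribMulAction G V],
      Group.IsSolvable G → Nat.Coprime (Nat.card G) (Nat.card V) → H35.OddBase.HasPair G V) :
    CoprimeBase2 := fun G V _ _ hs _ _ _ _ _ _ hcop => hpair G V hs hcop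

end H15.BaseRed
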